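import Groth.Prelude.Def_CAlg
import Groth.Agent.Ega4B.DepthBasic
import Groth.Agent.S2090
import Mathlib.Algebra.Module.FinitePresentation
import Mathlib.RingTheory.Localization.AtPrime.Basic

/-!
# Depth of `Hom(M, N)`

* `two_le_depth_of_pair`, `one_le_depth_of_regular`: elementary criteria.
* `one_le_depth_hom`, `two_le_depth_hom`: `depth N ≥ i ⟹ depth Hom(M, N) ≥ i` for `i ≤ 2`.
* `min_le_depth_hom`: the version with `min`.
* `supportDim_hom_le`: the support dimension of `Hom(M, N)` is at most that of `N`.
-/

set_option autoImplicit false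
universe u v

namespace K64.DepthHom

open IsLocalRing RingTheory.Sequence

theorem one_le_depth_of_regular {R : Type u} [CommRing R] [IsLocalRing R] {N : Type v} [AddCommGroup N] [Module R N]
    (a : R) (ha : a ∈ maximalIdeal R) (h : ∀ x : N, a • x = 0 → x = 0) : 1 ≤ LocCoh.depth R N := by
  have h1 : IsWeaklyRegular N [a] := by
    rw [isWeaklyRegular_cons_iff]
    refine ⟨fun x y hxy => ?_, IsWeaklyRegular.nil _ _⟩
    rw [← sub_eq_zero]
    apply h
    rw [smul_sub, sub_eq_zero]
    exact hxy
  have := Groth.Agent.Ega4B.DepthBasic.length_le_idealDepth (I := maximalIdeal R) [a] h1 (by simpa using ha)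
  exact_mod_cast this

theorem two_le_depth_of_pair {R : Type u} [CommRing R] [IsLocalRing R] {N : Type v} [AddCommGroup N] [Module R N]
    (a b : R) (ha : a ∈ maximalIdeal R) (hb : b ∈ maximalIdeal R) (h : ∀ x : N, a • x = 0 → x = 0)
    (h' : ∀ x y : N, b • x = a • y → ∃ z : N, x = a • z) : 2 ≤ LocCoh.depth R N := by
  have h1 : IsWeaklyRegular N [a, b] := by
    rw [isWeaklyRegular_cons_iff, isWeaklyRegular_cons_iff]
    refine ⟨fun x y hxy => ?_, fun x y hxy => ?_, IsWeaklyRegular.nil _ _⟩
    · rw [← sub_eq_zero]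
      apply h
      rw [smul_sub, sub_eq_zero]
      exact hxy
    · obtain ⟨x, rfl⟩ := Submodule.Quotient.mk_surjective _ x
      obtain ⟨y, rfl⟩ := Submodule.Quotient.mk_surjective _ y
      beta_reduce at hxy
      rw [← Submodule.Quotient.mk_smul, ← Submodule.Quotient.mk_smul, Submodule.Quotient.eq, ← smul_sub,
        Submodule.mem_smul_pointwise_iff_exists] at hxy
      obtain ⟨w, -, hw⟩ := hxy
      obtain ⟨z, hz⟩ := h' _ w hw.symm
      rw [Submodule.Quotient.eq, Submodule.mem_smul_pointwise_iff_exists]
      exact ⟨z, trivial, hz.symm⟩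
  have := Groth.Agent.Ega4B.DepthBasic.length_le_idealDepth (I := maximalIdeal R) [a, b] h1 (by
    intro r hr
    simp only [List.mem_cons, List.not_mem_nil, or_false] at hr
    rcases hr with rfl | rfl
    · exact ha
    · exact hb)
  exact_mod_cast this

theorem exists_regular_of_one_le_depth {R : Type u} [CommRing R] [IsLocalRing R] {N : Type v} [AddCommGroup N]
    [Module R N] [Module.Finite R N] (h : 1 ≤ LocCoh.depth R N) :
    ∃ a ∈ maximalIdeal R, ∀ x : N, a • x = 0 → x = 0 := by
  by_cases htop : maximalIdeal R • (⊤ : Submodule R N) = ⊤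
  · have hsub : (⊤ : Submodule R N) = ⊥ :=
      Submodule.eq_bot_of_le_smul_of_le_jacobson_bot (maximalIdeal R) ⊤ (Module.Finite.fg_top) htop.ge
        (IsLocalRing.maximalIdeal_le_jacobson ⊥)
    refine ⟨0, zero_mem _, fun x _ => ?_⟩
    have : x ∈ (⊤ : Submodule R N) := trivial
    rw [hsub] at this
    simpa using this
  · obtain ⟨rs, hlen, hrs, hreg⟩ := (Groth.Agent.Ega4B.DepthBasic.natCast_le_idealDepth_iff htop 1).mp
      (by exact_mod_cast h)
    match rs, hlen, hrs, hreg with
    | [a], _, hrs, hreg =>
      rw [isWeaklyRegular_cons_iff] at hreg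
      exact ⟨a, hrs a (by simp), fun x hx => hreg.1 (by simpa using hx)⟩

theorem one_le_depth_hom {R : Type u} [CommRing R] [IsLocalRing R] (M : Type v) {N : Type u} [AddCommGroup M]
    [Module R M] [AddCommGroup N] [Module R N] [Module.Finite R N] (h : 1 ≤ LocCoh.depth R N) :
    1 ≤ LocCoh.depth R (M →ₗ[R] N) := by
  obtain ⟨a, ha, h1⟩ := exists_regular_of_one_le_depth h
  exact one_le_depth_of_regular a ha fun φ hφ => LinearMap.ext fun m => h1 _ (LinearMap.congr_fun hφ m)

theorem two_le_depth_hom {R : Type u} [CommRing R] [IsLocalRing R] (M : Type v) {N : Type u} [AddCommGroup M]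
    [Module R M] [AddCommGroup N] [Module R N] [Module.Finite R N] (h : 2 ≤ LocCoh.depth R N) :
    2 ≤ LocCoh.depth R (M →ₗ[R] N) := by
  obtain ⟨a, ha, b, hb, h1, h2⟩ := Groth.Agent.S2090.exists_pair_of_two_le_depth h
  refine two_le_depth_of_pair a b ha hb (fun φ hφ => LinearMap.ext fun m => h1 _ (LinearMap.congr_fun hφ m)) ?_
  intro φ ψ h3
  choose z hz using fun m => h2 (φ m) (ψ m) (LinearMap.congr_fun h3 m)
  have hinj : ∀ x y : N, a • x = a • y → x = y := fun x y hxy => by
    rw [← sub_eq_zero]
    apply h1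
    rw [smul_sub, hxy, sub_self]
  refine ⟨{ toFun := z, map_add' := fun m m' => hinj _ _ ?_, map_smul' := fun c m => hinj _ _ ?_ }, ?_⟩
  · rw [smul_add, ← hz, ← hz, ← hz, map_add]
  · rw [← hz, RingHom.id_apply, smul_comm, ← hz, map_smul]
  · ext m
    exact hz m

theorem min_le_depth_hom {R : Type u} [CommRing R] [IsLocalRing R] (M : Type v) {N : Type u} [AddCommGroup M]
    [Module R M] [AddCommGroup N] [Module R N] [Module.Finite R N] :
    min (2 : ℕ∞) (LocCoh.depth R N) ≤ LocCoh.depth R (M →ₗ[R] N) := by
  rcases le_or_gt 2 (LocCoh.depth R N) with h | h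
  · exact (min_le_left _ _).trans (two_le_depth_hom M h)
  · rcases le_or_gt 1 (LocCoh.depth R N) with h' | h'
    · have : LocCoh.depth R N ≤ 1 := by
        have h2 : LocCoh.depth R N < 1 + 1 := by rwa [one_add_one_eq_two]
        exact ENat.lt_add_one_iff (by simp) |>.mp h2
      exact ((min_le_right _ _).trans this).trans (one_le_depth_hom M h')
    · have : LocCoh.depth R N = 0 := by simpa using h'
      rw [this]
      simp

theorem supportDim_hom_le {R : Type u} [CommRing R] [IsNoetherianRing R] (M N : Type u) [AddCommGroup M]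
    [Module R M] [AddCommGroup N] [Module R N] [Module.Finite R N] [Module.Finite R (M →ₗ[R] N)] :
    Module.supportDim R (M →ₗ[R] N) ≤ Module.supportDim R N := by
  rw [Module.supportDim_eq_ringKrullDim_quotient_annihilator,
    Module.supportDim_eq_ringKrullDim_quotient_annihilator]
  have : Module.annihilator R N ≤ Module.annihilator R (M →ₗ[R] N) := by
    intro r hr
    rw [Module.mem_annihilator] at hr ⊢
    intro φ
    ext m
    exact hr _
  exact ringKrullDim_le_of_surjective (Ideal.Quotient.factor this) (Ideal.Quotient.factor_surjective this)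

/-- Over a Noetherian ring, `Hom` of finite modules is finite. -/
theorem finite_hom {R : Type u} [CommRing R] [IsNoetherianRing R] (M N : Type*) [AddCommGroup M]
    [Module R M] [Module.Finite R M] [AddCommGroup N] [Module R N] [Module.Finite R N] :
    Module.Finite R (M →ₗ[R] N) := by
  obtain ⟨n, π, hπ⟩ := Module.Finite.exists_fin' R M
  exact Module.Finite.of_injective (LinearMap.lcomp R N π) (fun f g h => by
    rw [← LinearMap.cancel_right hπ]; exact h)

end K64.DepthHom
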