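import Groth.Agent.S0387
import Mathlib.RingTheory.MvPolynomial.Localization
import Mathlib.RingTheory.Localization.LocalizationLocalization
import Mathlib.RingTheory.RingHom.FinitePresentation
import Mathlib.RingTheory.Localization.Away.AdjoinRoot
import Mathlib.RingTheory.Flat.Localization
import Mathlib.RingTheory.Localization.Ideal

/-!
# Finite presentation of flat finite type algebras, locally at finitely many primes

* `exists_fg`: a finite type algebra whose localization at `p` is finitely presented.
* `exists_away`: spreading out flatness from the localization at a prime of the base.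
* `eq_zero_of_injective_pi`: a flat module embeds in its localizations at a faithful finite family of primes.
* `isLocalization_of_ker`: localizations of a quotient.
-/

set_option autoImplicit false
universe u
open TensorProduct

namespace K64.FPFlat

attribute [local instance] MvPolynomial.algebraMvPolynomial

/-- If `S_p` is finitely presented over `R_p`, the kernel of a presentation is finitely generated up to elements
outside `p`. -/
theorem exists_fg {R S : Type u} [CommRing R] [CommRing S] [Algebra R S] {n : ℕ}
    (φ : MvPolynomial (Fin n) R →ₐ[R] S) (hφ : Function.Surjective φ) (p : Ideal R) [p.IsPrime]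
    [Algebra.FinitePresentation (Localization.AtPrime p)
      (Localization (Algebra.algebraMapSubmonoid S p.primeCompl))] :
    ∃ J : Ideal (MvPolynomial (Fin n) R), J.FG ∧ J ≤ RingHom.ker φ ∧
      ∀ x ∈ RingHom.ker φ, ∃ t : R, t ∉ p ∧ MvPolynomial.C t * x ∈ J := by
  classical
  let Rp := Localization.AtPrime p
  let Sp := Localization (Algebra.algebraMapSubmonoid S p.primeCompl)
  let P := MvPolynomial (Fin n) R
  let Pp := MvPolynomial (Fin n) Rp
  let ψ : Pp →ₐ[Rp] Sp := MvPolynomial.aeval fun i => algebraMap S Sp (φ (MvPolynomial.X i))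
  have hcomp : ∀ g : P, ψ (MvPolynomial.map (algebraMap R Rp) g) = algebraMap S Sp (φ g) := by
    intro g
    have h1 : (ψ.toRingHom.comp (MvPolynomial.map (algebraMap R Rp))) = (algebraMap S Sp).comp φ.toRingHom := by
      apply MvPolynomial.ringHom_ext
      · intro r
        have h2 : φ (MvPolynomial.C r) = algebraMap R S r := by
          rw [← MvPolynomial.algebraMap_eq, AlgHom.commutes]
        change ψ (MvPolynomial.map (algebraMap R Rp) (MvPolynomial.C r)) = algebraMap S Sp (φ (MvPolynomial.C r))
        rw [h2, MvPolynomial.map_C, ← MvPolynomial.algebraMap_eq, AlgHom.commutes,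
          ← IsScalarTower.algebraMap_apply R Rp Sp, ← IsScalarTower.algebraMap_apply R S Sp]
      · intro i
        change ψ (MvPolynomial.map (algebraMap R Rp) (MvPolynomial.X i)) = algebraMap S Sp (φ (MvPolynomial.X i))
        rw [MvPolynomial.map_X, MvPolynomial.aeval_X]
    exact DFunLike.congr_fun h1 g
  have hψ : Function.Surjective ψ := by
    intro y
    obtain ⟨s, ⟨_, t, ht, rfl⟩, rfl⟩ := IsLocalization.exists_mk'_eq (Algebra.algebraMapSubmonoid S p.primeCompl) y
    obtain ⟨g, rfl⟩ := hφ s
    refine ⟨MvPolynomial.C (IsLocalization.mk' Rp 1 (⟨t, ht⟩ : p.primeCompl)) * MvPolynomial.map (algebraMap R Rp) g, ?_⟩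
    rw [map_mul, hcomp, IsLocalization.eq_mk'_iff_mul_eq, ← MvPolynomial.algebraMap_eq, AlgHom.commutes]
    have h3 : algebraMap Rp Sp (IsLocalization.mk' Rp 1 (⟨t, ht⟩ : p.primeCompl)) *
        algebraMap S Sp (algebraMap R S t) = 1 := by
      rw [← IsScalarTower.algebraMap_apply R S Sp, IsScalarTower.algebraMap_apply R Rp Sp, ← map_mul]
      have : IsLocalization.mk' Rp 1 (⟨t, ht⟩ : p.primeCompl) * algebraMap R Rp t = 1 := by
        simpa using IsLocalization.mk'_spec Rp (1 : R) (⟨t, ht⟩ : p.primeCompl)
      rw [this, map_one]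
    rw [mul_right_comm, h3, one_mul]
  have hfg := Algebra.FinitePresentation.ker_fG_of_surjective ψ hψ
  -- the kernel of `ψ` is generated by the image of the kernel of `φ`
  have hker : RingHom.ker ψ.toRingHom =
      Ideal.span ((MvPolynomial.map (algebraMap R Rp)) '' (RingHom.ker φ : Set P)) := by
    apply le_antisymm
    · intro g hg
      have hg' : ψ g = 0 := hg
      obtain ⟨h, ⟨_, t, ht, rfl⟩, rfl⟩ :=
        IsLocalization.exists_mk'_eq (p.primeCompl.map (MvPolynomial.C (σ := Fin n))) g
      have h4 : algebraMap S Sp (φ h) = 0 := by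
        rw [← hcomp]
        have h5 : (MvPolynomial.map (algebraMap R Rp)) h =
            IsLocalization.mk' Pp h (⟨_, t, ht, rfl⟩ : p.primeCompl.map (MvPolynomial.C (σ := Fin n))) *
              algebraMap P Pp (MvPolynomial.C t) := (IsLocalization.mk'_spec Pp h _).symm
        rw [h5, map_mul, hg', zero_mul]
      rw [IsLocalization.map_eq_zero_iff (Algebra.algebraMapSubmonoid S p.primeCompl)] at h4
      obtain ⟨⟨_, t', ht', rfl⟩, h6⟩ := h4
      have h7 : MvPolynomial.C t' * h ∈ RingHom.ker φ := by
        rw [RingHom.mem_ker, map_mul, ← MvPolynomial.algebraMap_eq, AlgHom.commutes]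
        exact h6
      have h8 : IsLocalization.mk' Pp h (⟨_, t, ht, rfl⟩ : p.primeCompl.map (MvPolynomial.C (σ := Fin n))) =
          IsLocalization.mk' Pp 1 (⟨_, t * t', mul_mem ht ht', rfl⟩ :
            p.primeCompl.map (MvPolynomial.C (σ := Fin n))) * algebraMap P Pp (MvPolynomial.C t' * h) := by
        rw [mul_comm _ (algebraMap P Pp (MvPolynomial.C t' * h)), ← IsLocalization.mk'_eq_mul_mk'_one,
          IsLocalization.mk'_eq_iff_eq]
        congr 1
        simp only [map_mul]
        ring
      rw [h8]
      exact Ideal.mul_mem_left _ _ (Ideal.subset_span ⟨_, h7, rfl⟩)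
    · rw [Ideal.span_le]
      rintro _ ⟨g, hg, rfl⟩
      have hg' : φ g = 0 := hg
      change ψ (MvPolynomial.map (algebraMap R Rp) g) = 0
      rw [hcomp, hg', map_zero]
  rw [hker] at hfg
  obtain ⟨F, hF, hspan⟩ := (Submodule.fg_span_iff_fg_span_finset_subset _).mp hfg
  obtain ⟨G, hG, hGF⟩ := Finset.subset_set_image_iff.mp hF
  refine ⟨Ideal.span (G : Set P), ⟨G, rfl⟩, Ideal.span_le.mpr hG, fun x hx => ?_⟩
  have h9 : algebraMap P Pp x ∈ (Ideal.span (G : Set P)).map (algebraMap P Pp) := by
    rw [Ideal.map_span]
    have h10 : algebraMap P Pp x ∈ Ideal.span ((MvPolynomial.map (algebraMap R Rp)) '' (RingHom.ker φ : Set P)) :=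
      Ideal.subset_span ⟨x, hx, rfl⟩
    have h11 : Ideal.span ((MvPolynomial.map (algebraMap R Rp)) '' (RingHom.ker φ : Set P)) =
        Ideal.span (F : Set Pp) := hspan
    rw [h11, ← hGF, Finset.coe_image] at h10
    exact h10
  rw [IsLocalization.algebraMap_mem_map_algebraMap_iff (p.primeCompl.map (MvPolynomial.C (σ := Fin n)))] at h9
  obtain ⟨_, ⟨t, ht, rfl⟩, h12⟩ := h9
  exact ⟨t, ht, h12⟩

/-- If every element of the kernel of the surjection `S' → S` is killed by an element of `T ⊆ R`, then a
localization of `S` at `T` is a localization of `S'` at `T`. -/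
theorem isLocalization_of_ker {R S' S A : Type u} [CommRing R] [CommRing S'] [CommRing S] [CommRing A]
    [Algebra R S'] [Algebra R S] [Algebra S' S] [IsScalarTower R S' S] [Algebra S A] [Algebra S' A]
    [IsScalarTower S' S A] (T : Submonoid R) [IsLocalization (Algebra.algebraMapSubmonoid S T) A]
    (hs : Function.Surjective (algebraMap S' S)) (hk : ∀ x : S', algebraMap S' S x = 0 → ∃ t ∈ T, t • x = 0) :
    IsLocalization (Algebra.algebraMapSubmonoid S' T) A := by
  refine ⟨?_, ?_, ?_⟩
  · rintro ⟨_, t, ht, rfl⟩
    change IsUnit (algebraMap S' A (algebraMap R S' t))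
    rw [IsScalarTower.algebraMap_apply S' S A, ← IsScalarTower.algebraMap_apply R S' S]
    exact IsLocalization.map_units A (⟨_, t, ht, rfl⟩ : Algebra.algebraMapSubmonoid S T)
  · intro z
    obtain ⟨⟨x, ⟨_, t, ht, rfl⟩⟩, h⟩ := IsLocalization.surj (Algebra.algebraMapSubmonoid S T) z
    obtain ⟨x, rfl⟩ := hs x
    refine ⟨⟨x, ⟨_, t, ht, rfl⟩⟩, ?_⟩
    rw [IsScalarTower.algebraMap_apply S' S A, IsScalarTower.algebraMap_apply S' S A,
      ← IsScalarTower.algebraMap_apply R S' S]
    exact h
  · intro x y hxy
    rw [IsScalarTower.algebraMap_apply S' S A, IsScalarTower.algebraMap_apply S' S A,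
      IsLocalization.eq_iff_exists (Algebra.algebraMapSubmonoid S T)] at hxy
    obtain ⟨⟨_, t, ht, rfl⟩, h⟩ := hxy
    have h1 : algebraMap S' S (t • (x - y)) = 0 := by
      rw [Algebra.smul_def, map_mul, ← IsScalarTower.algebraMap_apply R S' S, map_sub, mul_sub, sub_eq_zero]
      exact h
    obtain ⟨t', ht', h2⟩ := hk _ h1
    refine ⟨⟨_, t' * t, mul_mem ht' ht, rfl⟩, ?_⟩
    change algebraMap R S' (t' * t) * x = algebraMap R S' (t' * t) * y
    rw [← sub_eq_zero, ← mul_sub, ← Algebra.smul_def, mul_smul]
    exact h2

/-- A flat module embeds into the product of its localizations at finitely many primes, when the ring does. -/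
theorem eq_zero_of_injective_pi {R : Type u} [CommRing R] (s : Finset (PrimeSpectrum R))
    (hs : Function.Injective fun r : R => fun p : s => algebraMap R (Localization.AtPrime p.1.asIdeal) r)
    (M : Type u) [AddCommGroup M] [Module R M] [Module.Flat R M] (m : M)
    (hm : ∀ p ∈ s, ∃ t : R, t ∉ p.asIdeal ∧ t • m = 0) : m = 0 := by
  classical
  choose t ht htm using fun p : s => hm p.1 p.2
  let f : R →ₗ[R] (s → R) := LinearMap.pi fun p => t p • LinearMap.id
  have hf : Function.Injective f := by
    rw [injective_iff_map_eq_zero]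
    intro a ha
    apply hs
    funext p
    beta_reduce
    have h1 : t p * a = 0 := congrFun ha p
    rw [map_zero]
    have h2 : algebraMap R (Localization.AtPrime p.1.asIdeal) (t p) *
        algebraMap R (Localization.AtPrime p.1.asIdeal) a = 0 := by rw [← map_mul, h1, map_zero]
    exact ((IsLocalization.map_units (Localization.AtPrime p.1.asIdeal)
      (⟨t p, ht p⟩ : p.1.asIdeal.primeCompl)).mul_right_eq_zero).mp h2
  have hfM := Module.Flat.rTensor_preserves_injective_linearMap (M := M) f hf
  have h3 : f.rTensor M (1 ⊗ₜ m) = 0 := by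
    rw [LinearMap.rTensor_tmul]
    have h4 : f 1 = ∑ p, t p • (Pi.single p 1 : s → R) := by
      ext q
      simp [f, Finset.sum_apply, Pi.single_apply]
    rw [h4, TensorProduct.sum_tmul]
    refine Finset.sum_eq_zero fun p _ => ?_
    rw [TensorProduct.smul_tmul, htm, TensorProduct.tmul_zero]
  have h5 : (1 : R) ⊗ₜ[R] m = 0 := hfM (h3.trans (map_zero _).symm)
  have h6 := congrArg (TensorProduct.lid R M) h5
  simpa using h6

/-- Spreading out flatness from the localization at a prime of the base. -/
theorem exists_away {R S A : Type u} [CommRing R] [CommRing S] [Algebra R S] [Algebra.FinitePresentation R S]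
    (q : Ideal R) [q.IsPrime] [CommRing A] [Algebra S A] [Algebra R A] [IsScalarTower R S A]
    [IsLocalization (Algebra.algebraMapSubmonoid S q.primeCompl) A] [Module.Flat R A] :
    ∃ f : R, f ∉ q ∧ Module.Flat R (Localization.Away (algebraMap R S f)) := by
  have hopen : IsOpen {Q : PrimeSpectrum S | Module.Flat R (LocalizedModule Q.asIdeal.primeCompl S)} :=
    Groth.Agent.S0387.result (R := R) (S := S) (M := S)
  obtain ⟨I, hI⟩ := (PrimeSpectrum.isClosed_iff_zeroLocus_ideal _).mp hopen.isClosed_compl
  -- primes disjoint from the complement of `q` are in the flat locus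
  have h1 : ∀ Q : PrimeSpectrum S, Disjoint (Q.asIdeal : Set S) (Algebra.algebraMapSubmonoid S q.primeCompl) →
      Module.Flat R (Localization.AtPrime Q.asIdeal) := by
    intro Q hQ
    have hle : Algebra.algebraMapSubmonoid S q.primeCompl ≤ Q.asIdeal.primeCompl := fun x hx hxQ =>
      Set.disjoint_left.mp hQ hxQ hx
    let _ : Algebra A (Localization.AtPrime Q.asIdeal) :=
      IsLocalization.localizationAlgebraOfSubmonoidLe A (Localization.AtPrime Q.asIdeal)
        (Algebra.algebraMapSubmonoid S q.primeCompl) Q.asIdeal.primeCompl hle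
    have : IsScalarTower S A (Localization.AtPrime Q.asIdeal) :=
      IsLocalization.localization_isScalarTower_of_submonoid_le A (Localization.AtPrime Q.asIdeal)
        (Algebra.algebraMapSubmonoid S q.primeCompl) Q.asIdeal.primeCompl hle
    have : IsScalarTower R A (Localization.AtPrime Q.asIdeal) := IsScalarTower.of_algebraMap_eq fun r => by
      rw [IsScalarTower.algebraMap_apply R S (Localization.AtPrime Q.asIdeal),
        IsScalarTower.algebraMap_apply R S A, ← IsScalarTower.algebraMap_apply S A]
    have h2 : IsLocalization (Q.asIdeal.primeCompl.map (algebraMap S A)) (Localization.AtPrime Q.asIdeal) :=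
      IsLocalization.isLocalization_of_submonoid_le A (Localization.AtPrime Q.asIdeal)
        (Algebra.algebraMapSubmonoid S q.primeCompl) Q.asIdeal.primeCompl hle
    have h3 : Module.Flat A (Localization.AtPrime Q.asIdeal) := IsLocalization.flat _ (Q.asIdeal.primeCompl.map (algebraMap S A))
    exact Module.Flat.trans R A _
  have h2 : ¬ Disjoint (I : Set S) (Algebra.algebraMapSubmonoid S q.primeCompl) := by
    intro hd
    obtain ⟨Q, hQ, hIQ, hQd⟩ := Ideal.exists_le_prime_disjoint I _ hd
    have h3 : (⟨Q, hQ⟩ : PrimeSpectrum S) ∈ PrimeSpectrum.zeroLocus (I : Set S) := hIQ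
    rw [← hI] at h3
    exact h3 (h1 ⟨Q, hQ⟩ hQd)
  rw [Set.not_disjoint_iff] at h2
  obtain ⟨_, hfI, f, hf, rfl⟩ := h2
  refine ⟨f, hf, ?_⟩
  set g := algebraMap R S f with hg
  let Sf := Localization.Away g
  have h4 : ∀ (P : Ideal Sf) [P.IsMaximal], Module.Flat R (Localization.AtPrime P) := by
    intro P hP
    let Q := P.comap (algebraMap S Sf)
    have hgQ : g ∉ Q := fun hgQ => hP.ne_top
      (Ideal.eq_top_of_isUnit_mem _ hgQ (IsLocalization.Away.algebraMap_isUnit g))
    have h5 : (⟨Q, inferInstance⟩ : PrimeSpectrum S) ∉ PrimeSpectrum.zeroLocus (I : Set S) := fun h => hgQ (h hfI)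
    rw [← hI, Set.notMem_compl_iff] at h5
    have h6 : Module.Flat R (Localization.AtPrime Q) := h5
    have h7 : IsLocalization.AtPrime (Localization.AtPrime P) Q :=
      IsLocalization.isLocalization_isLocalization_atPrime_isLocalization (Submonoid.powers g)
        (Localization.AtPrime P) P
    let e : Localization.AtPrime P ≃ₐ[S] Localization.AtPrime Q :=
      IsLocalization.algEquiv Q.primeCompl (Localization.AtPrime P) (Localization.AtPrime Q)
    exact Module.Flat.of_linearEquiv (e.toLinearEquiv.restrictScalars R)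
  exact Module.flat_of_isLocalized_maximal (R := R) (S := Sf) Sf (fun P _ => Localization.AtPrime P)
    (fun P _ => Algebra.linearMap Sf (Localization.AtPrime P)) (fun P _ => h4 P)

end K64.FPFlat
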