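import Groth.Agent.S6893
import Groth.Agent.S6886
import Groth.Agent.Ega43.NilpotentFlat
import Groth.Agent.Ega43.FlatDescNil
import Mathlib.RingTheory.Spectrum.Prime.RingHom
import Mathlib.RingTheory.Ideal.GoingUp
import Mathlib.RingTheory.Flat.FaithfullyFlat.Basic
import Mathlib.RingTheory.Noetherian.Nilpotent

/-!
# Descent along finite injective ring maps

* `exists_split_family`: the ideals `J_k` of `R` attached to a finite algebra generated by elements
  killed by split monic polynomials; `R → R/J_k` factors through `S` and `∩ J_k` is nilpotent.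
* `exists_family`: general finite injective maps: after a finite free extension.
-/

set_option autoImplicit false
universe u
open TensorProduct

namespace K64.FiniteDescent

/-- Flatness modulo a finite intersection of ideals. -/
theorem flat_quotient_iInf {R : Type u} [CommRing R] (M : Type u) [AddCommGroup M] [Module R M] {κ : Type}
    (s : Finset κ) (J : κ → Ideal R) (h : ∀ k, Module.Flat (R ⧸ J k) ((R ⧸ J k) ⊗[R] M)) :
    Module.Flat (R ⧸ (s.inf J)) ((R ⧸ (s.inf J)) ⊗[R] M) := by
  classical
  induction s using Finset.induction_on with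
  | empty =>
    have : Subsingleton (R ⧸ (∅ : Finset κ).inf J) := by
      rw [Finset.inf_empty]
      exact Ideal.Quotient.subsingleton_iff.mpr rfl
    have : Module.Free (R ⧸ (∅ : Finset κ).inf J) ((R ⧸ (∅ : Finset κ).inf J) ⊗[R] M) :=
      Module.Free.of_subsingleton' _ _
    infer_instance
  | insert k s _ ih =>
    rw [Finset.inf_insert]
    have := h k
    exact Groth.Agent.S6893.result M (J k) (s.inf J)

/-- A finite algebra generated by elements killed by split polynomials. -/
theorem exists_split_family {R S : Type u} [CommRing R] [CommRing S] [Algebra R S]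
    [Algebra.IsIntegral R S] (hinj : Function.Injective (algebraMap R S)) (n : ℕ) (d : Fin n → ℕ)
    (α : (i : Fin n) → Fin (d i) → R) (φ : MvPolynomial (Fin n) R →ₐ[R] S) (hφ : Function.Surjective φ)
    (hα : ∀ i, φ (∏ j, (MvPolynomial.X i - MvPolynomial.C (α i j))) = 0) :
    ∃ J : ((i : Fin n) → Fin (d i)) → Ideal R, (∀ k, Nonempty (S →ₐ[R] (R ⧸ J k))) ∧
      Finset.univ.inf J ≤ nilradical R := by
  classical
  let ev : (k : (i : Fin n) → Fin (d i)) → MvPolynomial (Fin n) R →ₐ[R] R := fun k =>
    MvPolynomial.aeval fun i => α i (k i)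
  have hev : ∀ k, Function.Surjective (ev k) := fun k r => ⟨MvPolynomial.C r, by simp [ev]⟩
  let J : ((i : Fin n) → Fin (d i)) → Ideal R := fun k => (RingHom.ker φ).map (ev k)
  refine ⟨J, fun k => ?_, ?_⟩
  · let e := (Ideal.quotientKerAlgEquivOfSurjective hφ).symm
    let ψ : (MvPolynomial (Fin n) R ⧸ RingHom.ker φ) →ₐ[R] (R ⧸ J k) :=
      Ideal.Quotient.liftₐ _ ((Ideal.Quotient.mkₐ R (J k)).comp (ev k)) (fun a ha =>
        Ideal.Quotient.eq_zero_iff_mem.mpr (Ideal.mem_map_of_mem _ ha))
    exact ⟨ψ.comp e.toAlgHom⟩
  · intro x hx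
    rw [mem_nilradical, nilpotent_iff_mem_prime]
    intro p hp
    -- a prime of `S` above `p`
    obtain ⟨q, -, hq, hqp⟩ := Ideal.exists_ideal_over_prime_of_isIntegral (R := R) (S := S) p ⊥
      (by
        change RingHom.ker (algebraMap R S) ≤ p
        rw [(RingHom.injective_iff_ker_eq_bot _).mp hinj]; exact bot_le)
    -- choose `k`
    have hk : ∀ i, ∃ j, φ (MvPolynomial.X i - MvPolynomial.C (α i j)) ∈ q := by
      intro i
      have h1 : φ (∏ j, (MvPolynomial.X i - MvPolynomial.C (α i j))) ∈ q := by
        rw [hα i]; exact zero_mem q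
      rw [map_prod] at h1
      obtain ⟨j, -, hj⟩ := (hq.prod_mem_iff).mp h1
      exact ⟨j, hj⟩
    choose k hk using hk
    have hJp : J k ≤ p := by
      rw [Ideal.map_le_iff_le_comap]
      intro g hg
      rw [Ideal.mem_comap]
      -- `g ≡ C (ev k g)` modulo the ideal generated by the `X i - C (α i (k i))`
      have h2 : φ g - φ (MvPolynomial.C (ev k g)) ∈ q := by
        have h3 : (Ideal.Quotient.mkₐ R q).comp φ = ((Ideal.Quotient.mkₐ R q).comp φ).comp
            ((IsScalarTower.toAlgHom R R (MvPolynomial (Fin n) R)).comp (ev k)) := by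
          apply MvPolynomial.algHom_ext
          intro i
          have h4 := hk i
          rw [← Ideal.Quotient.eq_zero_iff_mem, map_sub, map_sub, sub_eq_zero] at h4
          simpa [ev] using h4
        have h5 := DFunLike.congr_fun h3 g
        rw [← Ideal.Quotient.eq_zero_iff_mem, map_sub, sub_eq_zero]
        simpa using h5
      rw [show φ g = 0 from hg, zero_sub, neg_mem_iff] at h2
      have h6 : φ (MvPolynomial.C (ev k g)) = algebraMap R S (ev k g) := by
        rw [← MvPolynomial.algebraMap_eq, AlgHom.commutes]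
      rw [h6] at h2
      rw [← hqp]
      exact h2
    exact hJp ((Finset.inf_le (Finset.mem_univ k) : Finset.univ.inf J ≤ J k) hx)

/-- The data after a finite free extension: `R'` finite free and faithfully flat over `R`, with finitely many ideals
`J k` of `R'` such that `R' → R'/J k` factors through `R' ⊗ S` and `∩ J k` is contained in the nilradical. -/
theorem exists_family (R S : Type u) [CommRing R] [CommRing S] [Algebra R S] [Module.Finite R S]
    (hinj : Function.Injective (algebraMap R S)) :
    ∃ (R' : Type u) (_ : CommRing R') (_ : Algebra R R'), Module.Finite R R' ∧ Module.Free R R' ∧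
      Function.Injective (algebraMap R R') ∧
      ∃ (κ : Type) (_ : Fintype κ) (J : κ → Ideal R'), (∀ k, Nonempty ((R' ⊗[R] S) →ₐ[R'] (R' ⧸ J k))) ∧
        Finset.univ.inf J ≤ nilradical R' := by
  obtain ⟨R', _, _, hfin, hfree, hinj', n, d, α, φ, hφ, hα⟩ := Groth.Agent.S6886.result R S
  have hinj2 : Function.Injective (algebraMap R' (R' ⊗[R] S)) := by
    have := Module.Flat.lTensor_preserves_injective_linearMap (M := R') (Algebra.linearMap R S) hinj
    intro x y hxy
    have h1 : (Algebra.linearMap R S).lTensor R' (x ⊗ₜ 1) = (Algebra.linearMap R S).lTensor R' (y ⊗ₜ 1) := by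
      simpa using hxy
    have h2 := congrArg (TensorProduct.rid R R') (this h1)
    simpa using h2
  have : Algebra.IsIntegral R' (R' ⊗[R] S) := inferInstance
  obtain ⟨J, hJ, hn⟩ := exists_split_family hinj2 n d α φ hφ hα
  exact ⟨R', inferInstance, inferInstance, hfin, hfree, hinj', _, inferInstance, J, hJ, hn⟩

/-- Descent of flatness along a finite injective map with Noetherian source. -/
theorem flat_of_finite_injective (R S : Type u) [CommRing R] [IsNoetherianRing R]
    [CommRing S] [Algebra R S] [Module.Finite R S] (hinj : Function.Injective (algebraMap R S))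
    (M : Type u) [AddCommGroup M] [Module R M] (hM : Module.Flat S (S ⊗[R] M)) : Module.Flat R M := by
  obtain ⟨R', _, _, hfin, hfree, hinj', κ, _, J, hJ, hn⟩ := exists_family R S hinj
  have : IsNoetherianRing R' := IsNoetherianRing.of_finite R R'
  have hff : Module.FaithfullyFlat R R' := by
    rcases subsingleton_or_nontrivial R with h | h
    · exact { submodule_ne_top := fun m hm => (hm.ne_top (Subsingleton.elim _ _)).elim }
    · have : Nontrivial R' := hinj'.nontrivial
      infer_instance
  -- the extension `S' = R' ⊗ S`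
  let S' := R' ⊗[R] S
  have hS' : Module.Flat S' (S' ⊗[R'] (R' ⊗[R] M)) := by
    rw [Groth.Agent.Ega43.FlatDescNil.flat_cancelBaseChange_iff]
    exact Groth.Agent.Ega43.FlatDescNil.flat_of_algHom
      (Algebra.TensorProduct.includeRight : S →ₐ[R] R' ⊗[R] S) hM
  have h1 : ∀ k, Module.Flat (R' ⧸ J k) ((R' ⧸ J k) ⊗[R'] (R' ⊗[R] M)) := fun k =>
    Groth.Agent.Ega43.FlatDescNil.flat_of_algHom (hJ k).some hS'
  have h2 := flat_quotient_iInf (R' ⊗[R] M) Finset.univ J h1
  have hinj2 : Function.Injective (algebraMap R' (R' ⊗[R] S)) := by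
    have := Module.Flat.lTensor_preserves_injective_linearMap (M := R') (Algebra.linearMap R S) hinj
    intro x y hxy
    have h1 : (Algebra.linearMap R S).lTensor R' (x ⊗ₜ 1) = (Algebra.linearMap R S).lTensor R' (y ⊗ₜ 1) := by
      simpa using hxy
    have h2 := congrArg (TensorProduct.rid R R') (this h1)
    simpa using h2
  have hnil : IsNilpotent (Finset.univ.inf J) := by
    obtain ⟨m, hm⟩ := IsNoetherianRing.isNilpotent_nilradical R'
    exact ⟨m, le_bot_iff.mp ((Ideal.pow_right_mono hn m).trans hm.le)⟩
  have h3 : Module.Flat R' (R' ⊗[R] M) :=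
    Groth.Agent.Ega43.NilpotentFlat.flat_of_nilpotent_of_injective (A := R') (R' ⊗[R] M) (fun _ : Unit => S') (Finset.univ.inf J) hnil
      (fun a ha => (injective_iff_map_eq_zero _).mp hinj2 a (ha ())) h2 (fun _ => hS')
  exact Module.Flat.of_flat_tensorProduct R M R'

end K64.FiniteDescent
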