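import Groth.Agent.CAlg.K64.FiniteDescent
import Groth.Agent.Smoothlim.FlatColimMod
import Groth.Agent.Ega43.NoethRed
import Mathlib.Algebra.Polynomial.Lifts

/-!
# Descent of flatness along an integral injective ring map

* `flat_of_integral_injective_alg`: for finitely presented algebras;
* `flat_of_integral_injective_mod`: for finitely presented modules over finitely presented algebras.
-/

set_option autoImplicit false
universe u
open TensorProduct

namespace K64.IntegralDescent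

theorem isIntegral_of_coeffs {R S : Type u} [CommRing R] [CommRing S] [Algebra R S] {R₁ : Type u} [CommRing R₁]
    [Algebra R₁ R] [Algebra R₁ S] [IsScalarTower R₁ R S] (p : Polynomial R) (hp : p.Monic) (x : S)
    (hx : Polynomial.aeval x p = 0) (h : ∀ c ∈ p.coeffs, c ∈ Set.range (algebraMap R₁ R)) : IsIntegral R₁ x := by
  have h1 : p ∈ Polynomial.lifts (algebraMap R₁ R) := by
    rw [Polynomial.lifts_iff_coeff_lifts]
    intro n
    by_cases h0 : p.coeff n = 0
    · rw [h0]; exact ⟨0, map_zero _⟩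
    · exact h _ (Polynomial.coeff_mem_coeffs h0)
  obtain ⟨q, hq, -, hqm⟩ := Polynomial.lifts_and_natDegree_eq_and_monic h1 hp
  refine ⟨q, hqm, ?_⟩
  rw [← Polynomial.aeval_def, ← Polynomial.aeval_map_algebraMap R, hq, hx]

theorem exists_adjoin {R₀ R₁ S : Type u} [CommRing R₀] [CommRing R₁] [CommRing S] [Algebra R₀ R₁] [Algebra R₁ S]
    [Algebra R₀ S] [IsScalarTower R₀ R₁ S] (s : Set S) (hs : s.Finite) (hi : ∀ x ∈ s, IsIntegral R₁ x)
    (hinj : Function.Injective (algebraMap R₁ S)) :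
    ∃ (S₁ : Type u) (_ : CommRing S₁) (_ : Algebra R₁ S₁) (_ : Algebra R₀ S₁) (_ : IsScalarTower R₀ R₁ S₁),
      Module.Finite R₁ S₁ ∧ Function.Injective (algebraMap R₁ S₁) ∧
      Nonempty (Algebra.adjoin R₀ s →ₐ[R₀] S₁) := by
  let S₁ : Subalgebra R₁ S := Algebra.adjoin R₁ s
  have hfin : Module.Finite R₁ S₁ := Algebra.finite_adjoin_of_finite_of_isIntegral hs hi
  have hinj1 : Function.Injective (algebraMap R₁ S₁) := fun a b hab => hinj (congrArg Subtype.val hab)
  have hle : ∀ x : Algebra.adjoin R₀ s, (x : S) ∈ S₁ := by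
    have h1 : ∀ x ∈ s, x ∈ S₁ := fun x hx => Algebra.subset_adjoin hx
    have : Algebra.adjoin R₀ s ≤ S₁.restrictScalars R₀ := Algebra.adjoin_le h1
    exact fun x => this x.2
  let i₀ : Algebra.adjoin R₀ s →+* S₁ :=
    (Algebra.adjoin R₀ s).val.toRingHom.codRestrict S₁ hle
  let _ : Algebra R₀ S₁ := ((algebraMap R₁ S₁).comp (algebraMap R₀ R₁)).toAlgebra
  have hst : IsScalarTower R₀ R₁ S₁ := IsScalarTower.of_algebraMap_eq fun r => rfl
  have hcomm : ∀ r, i₀ (algebraMap R₀ _ r) = algebraMap R₀ S₁ r := fun r => by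
    apply Subtype.ext
    have h1 : ((i₀ (algebraMap R₀ _ r) : S₁) : S) = algebraMap R₀ S r := rfl
    have h2 : ((algebraMap R₀ S₁ r : S₁) : S) = algebraMap R₁ S (algebraMap R₀ R₁ r) := rfl
    rw [h1, h2, IsScalarTower.algebraMap_apply R₀ R₁ S]
  let i : Algebra.adjoin R₀ s →ₐ[R₀] S₁ := { toRingHom := i₀, commutes' := hcomm }
  exact ⟨S₁, inferInstance, inferInstance, inferInstance, hst, hfin, hinj1, ⟨i⟩⟩

theorem exists_adjoin₁ {R₀ R : Type u} [CommRing R₀] [CommRing R] [Algebra R₀ R] [IsNoetherianRing R₀]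
    (t : Set R) (ht : t.Finite) :
    ∃ (R₁ : Type u) (_ : CommRing R₁) (_ : Algebra R₀ R₁) (_ : Algebra R₁ R) (_ : IsScalarTower R₀ R₁ R),
      IsNoetherianRing R₁ ∧ Function.Injective (algebraMap R₁ R) ∧ t ⊆ Set.range (algebraMap R₁ R) := by
  let R₁ : Subalgebra R₀ R := Algebra.adjoin R₀ t
  have hft1 : Algebra.FiniteType R₀ R₁ := .adjoin_of_finite ht
  have hno1 : IsNoetherianRing R₁ := Algebra.FiniteType.isNoetherianRing R₀ R₁
  exact ⟨R₁, inferInstance, inferInstance, inferInstance, inferInstance, hno1, Subtype.val_injective,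
    fun x hx => ⟨⟨x, Algebra.subset_adjoin hx⟩, rfl⟩⟩

/-- Finitely many elements of an integral extension live in a finite extension of a Noetherian ring. -/
theorem exists_stage {R S : Type u} [CommRing R] [CommRing S] [Algebra R S]
    [Algebra.IsIntegral R S] (hinj : Function.Injective (algebraMap R S)) (R₀ : Type u) [CommRing R₀]
    [Algebra R₀ R] [Algebra R₀ S] [IsScalarTower R₀ R S] [IsNoetherianRing R₀] (s : Finset S) :
    ∃ (R₁ S₁ : Type u) (_ : CommRing R₁) (_ : CommRing S₁) (_ : Algebra R₀ R₁) (_ : Algebra R₁ R)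
      (_ : IsScalarTower R₀ R₁ R) (_ : Algebra R₁ S₁) (_ : Algebra R₀ S₁) (_ : IsScalarTower R₀ R₁ S₁),
      IsNoetherianRing R₁ ∧ Module.Finite R₁ S₁ ∧ Function.Injective (algebraMap R₁ S₁) ∧
      Nonempty (Algebra.adjoin R₀ (s : Set S) →ₐ[R₀] S₁) := by
  classical
  choose p hpm hp using fun x : S => Algebra.IsIntegral.isIntegral (R := R) x
  obtain ⟨R₁, _, _, _, _, hno, hinjR, ht⟩ := exists_adjoin₁ (R₀ := R₀)
    (⋃ x ∈ (s : Set S), ((p x).coeffs : Set R)) (s.finite_toSet.biUnion fun x _ => Finset.finite_toSet _)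
  let _ : Algebra R₁ S := ((algebraMap R S).comp (algebraMap R₁ R)).toAlgebra
  have : IsScalarTower R₁ R S := IsScalarTower.of_algebraMap_eq fun r => rfl
  have : IsScalarTower R₀ R₁ S := IsScalarTower.of_algebraMap_eq fun r => by
    rw [IsScalarTower.algebraMap_apply R₀ R S, IsScalarTower.algebraMap_apply R₀ R₁ R]
    rfl
  obtain ⟨S₁, _, _, _, _, hfin, hinj1, hi⟩ := exists_adjoin (R₀ := R₀) (R₁ := R₁) (s : Set S) s.finite_toSet
    (fun x hx => isIntegral_of_coeffs (p x) (hpm x) x (hp x) fun c hc => ht (Set.mem_biUnion hx hc))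
    (hinj.comp hinjR)
  exact ⟨R₁, S₁, inferInstance, inferInstance, inferInstance, inferInstance, inferInstance, inferInstance,
    inferInstance, inferInstance, hno, hfin, hinj1, hi⟩

/-- The descent step at the finite stage. -/
theorem core {R₀ R₁ S₁ R D₀ E : Type u} [CommRing R₀] [CommRing R₁] [CommRing S₁] [CommRing R] [CommRing E]
    [AddCommGroup D₀] [Module R₀ D₀] [Algebra R₀ R₁] [Algebra R₁ S₁] [Algebra R₀ S₁] [IsScalarTower R₀ R₁ S₁]
    [Algebra R₁ R] [Algebra R₀ R] [IsScalarTower R₀ R₁ R] [Algebra R₀ E] [IsNoetherianRing R₁] [Module.Finite R₁ S₁]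
    (hinj1 : Function.Injective (algebraMap R₁ S₁)) (i : E →ₐ[R₀] S₁) (hs : Module.Flat E (E ⊗[R₀] D₀)) :
    Module.Flat R (R ⊗[R₀] D₀) := by
  have h2 : Module.Flat S₁ (S₁ ⊗[R₀] D₀) := Groth.Agent.Ega43.FlatDescNil.flat_of_algHom i hs
  have h3 : Module.Flat S₁ (S₁ ⊗[R₁] (R₁ ⊗[R₀] D₀)) :=
    Module.Flat.of_linearEquiv (AlgebraTensorModule.cancelBaseChange R₀ R₁ S₁ S₁ D₀)
  have h4 : Module.Flat R₁ (R₁ ⊗[R₀] D₀) :=
    K64.FiniteDescent.flat_of_finite_injective R₁ S₁ hinj1 _ h3
  exact Module.Flat.of_linearEquiv (AlgebraTensorModule.cancelBaseChange R₀ R₁ R R D₀).symm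

theorem exists_model (R : Type u) [CommRing R] (D : Type u) [CommRing D] [Algebra R D]
    [Algebra.FinitePresentation R D] :
    ∃ (R₀ : Type u) (_ : CommRing R₀) (_ : Algebra R₀ R) (D₀ : Type u) (_ : CommRing D₀) (_ : Algebra R₀ D₀),
      IsNoetherianRing R₀ ∧ Algebra.FinitePresentation R₀ D₀ ∧ Nonempty (R ⊗[R₀] D₀ ≃ₐ[R] D) := by
  let P := Algebra.Presentation.ofFinitePresentation R D
  let R₀ : Subalgebra ℤ R := Algebra.adjoin ℤ P.coeffs
  have hcoeffs : P.HasCoeffs R₀ := ⟨fun x hx => ⟨⟨x, Algebra.subset_adjoin hx⟩, rfl⟩⟩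
  have hft : Algebra.FiniteType ℤ R₀ := .adjoin_of_finite P.finite_coeffs
  have hno : IsNoetherianRing R₀ := Algebra.FiniteType.isNoetherianRing ℤ R₀
  exact ⟨R₀, inferInstance, inferInstance, P.ModelOfHasCoeffs R₀, inferInstance, inferInstance, hno,
    inferInstance, ⟨P.tensorModelOfHasCoeffsEquiv R₀⟩⟩

theorem flat_of_integral_injective_alg (R S : Type u) [CommRing R] [CommRing S] [Algebra R S]
    [Algebra.IsIntegral R S] (hinj : Function.Injective (algebraMap R S)) (D : Type u) [CommRing D] [Algebra R D]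
    [Algebra.FinitePresentation R D] (h : Module.Flat S (S ⊗[R] D)) : Module.Flat R D := by
  obtain ⟨R₀, _, _, D₀, _, _, _, _, ⟨e⟩⟩ := exists_model R D
  let _ : Algebra R₀ S := ((algebraMap R S).comp (algebraMap R₀ R)).toAlgebra
  have : IsScalarTower R₀ R S := IsScalarTower.of_algebraMap_eq fun r => rfl
  have h0 : Module.Flat S (S ⊗[R₀] D₀) := by
    have h1 : Module.Flat S (S ⊗[R] (R ⊗[R₀] D₀)) :=
      Module.Flat.of_linearEquiv (LinearEquiv.baseChange R S _ _ e.toLinearEquiv)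
    exact Module.Flat.of_linearEquiv (AlgebraTensorModule.cancelBaseChange R₀ R S S D₀).symm
  obtain ⟨s, hs⟩ := Groth.Agent.Etbase.FlatStage.exists_flat_stage (A₀ := R₀) (A := S) D₀
  obtain ⟨R₁, S₁, _, _, _, _, _, _, _, _, _, _, hinj1, ⟨i⟩⟩ := exists_stage hinj R₀ s
  have h6 : Module.Flat R (R ⊗[R₀] D₀) := core hinj1 i hs
  exact Module.Flat.of_linearEquiv e.symm.toLinearEquiv

/-- **Descent of flatness along an integral injective ring map** for finitely presented modules over a finitely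
presented algebra. -/
theorem flat_of_integral_injective_mod (R S : Type u) [CommRing R] [CommRing S] [Algebra R S]
    [Algebra.IsIntegral R S] (hinj : Function.Injective (algebraMap R S)) (C M : Type u) [CommRing C] [Algebra R C]
    [Algebra.FinitePresentation R C] [AddCommGroup M] [Module R M] [Module C M] [IsScalarTower R C M]
    [Module.FinitePresentation C M] (h : Module.Flat S (S ⊗[R] M)) : Module.Flat R M := by
  obtain ⟨P, D, _, _, _, _, _, _, ⟨e⟩⟩ := Groth.Agent.Smoothlim.FlatColimMod.exists_sqZero (B := R) (C := C) (M := M)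
  have h1 : Module.Flat S (S ⊗[R] D) := (Groth.Agent.Smoothlim.FlatColimMod.flat_iff e S).mpr h
  have h2 : Module.Flat R D := flat_of_integral_injective_alg R S hinj D h1
  have h3 : Module.Flat R (P × M) := Module.Flat.of_linearEquiv e.symm
  exact .of_retract (LinearMap.inr R P M) (LinearMap.snd R _ _) (by ext; simp)

end K64.IntegralDescent
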