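import Groth.Agent.Flat2D.NilpAlg
import Mathlib.Algebra.Module.Projective
import Mathlib.LinearAlgebra.TensorProduct.Quotient
import Mathlib.RingTheory.Flat.Basic
import Mathlib.Algebra.Module.Torsion.Basic

/-!
# Projectivity of flat modules which are projective modulo ideals with product zero

* `exists_lift_of_killed`: if `P` is flat over `R` and `P/JP` is projective over `R/J`, then `P` has
  the lifting property for surjections with kernel killed by `J`.
* `projective_of_flat_of_prod_eq_zero`: `P` flat, `P/J_i P` projective over `R/J_i`, `∏ J_i = 0` imply `P` projective.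
-/

set_option autoImplicit false
universe u v w
open TensorProduct

namespace K64.ProjectiveFilt

variable {R : Type u} [CommRing R] {P : Type v} [AddCommGroup P] [Module R P]

/-- A surjection onto `P` with kernel killed by `J` splits. -/
theorem exists_section (J : Ideal R) [Module.Flat R P] (hP : Module.Projective (R ⧸ J) ((R ⧸ J) ⊗[R] P))
    {E : Type w} [AddCommGroup E] [Module R E] (g : E →ₗ[R] P) (hg : Function.Surjective g)
    (hK : ∀ a ∈ J, ∀ x ∈ LinearMap.ker g, a • x = 0) : ∃ s : P →ₗ[R] E, g ∘ₗ s = LinearMap.id := by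
  -- base change to `R/J`
  let gJ : ((R ⧸ J) ⊗[R] E) →ₗ[R ⧸ J] ((R ⧸ J) ⊗[R] P) := g.baseChange (R ⧸ J)
  have hgJ : Function.Surjective gJ := LinearMap.lTensor_surjective _ hg
  obtain ⟨t, ht⟩ := Module.projective_lifting_property gJ LinearMap.id hgJ
  -- the kernel of `g` maps isomorphically to the kernel of `gJ`
  let i : E →ₗ[R] (R ⧸ J) ⊗[R] E := TensorProduct.mk R (R ⧸ J) E 1
  have hker : LinearMap.ker i = J • (⊤ : Submodule R E) := LinearMap.ker_tensorProductMk E
  have hinj : ∀ x ∈ LinearMap.ker g, i x = 0 → x = 0 := by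
    intro x hx hx'
    have h1 : x ∈ LinearMap.ker g ⊓ J • ⊤ := ⟨hx, hker ▸ hx'⟩
    have h2 := Groth.Agent.Flat2D.NilpAlg.ker_inf_smul_top J g hg h1
    have h3 : J • LinearMap.ker g ≤ ⊥ := by
      rw [Submodule.smul_le]
      intro a ha y hy
      rw [hK a ha y hy]
      exact zero_mem _
    simpa using h3 h2
  have hi : Function.Surjective i := by
    intro z
    induction z using TensorProduct.induction_on with
    | zero => exact ⟨0, map_zero _⟩
    | add x y hx hy =>
      obtain ⟨x, rfl⟩ := hx
      obtain ⟨y, rfl⟩ := hy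
      exact ⟨x + y, map_add _ _ _⟩
    | tmul a x =>
      obtain ⟨a, rfl⟩ := Ideal.Quotient.mk_surjective a
      refine ⟨a • x, ?_⟩
      change (1 : R ⧸ J) ⊗ₜ[R] (a • x) = _
      rw [← TensorProduct.smul_tmul]
      congr 1
      rw [Algebra.smul_def, mul_one]
      rfl
  -- for `p ∈ P` there is a unique `e ∈ E` with `g e = p` and `i e = t (1 ⊗ p)`
  have hex : ∀ p : P, ∃ e : E, g e = p ∧ i e = t (1 ⊗ₜ p) := by
    intro p
    obtain ⟨e, he⟩ := hi (t (1 ⊗ₜ p))
    have h1 : gJ (i e) = 1 ⊗ₜ p := by
      rw [he]; exact LinearMap.congr_fun ht _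
    -- `g e - p ∈ J P`
    have h2 : (TensorProduct.mk R (R ⧸ J) P 1) (g e - p) = 0 := by
      rw [map_sub, sub_eq_zero]
      exact h1
    have h3 : g e - p ∈ J • (⊤ : Submodule R P) := by
      rw [← LinearMap.ker_tensorProductMk]; exact h2
    have h4 : g e - p ∈ (J • (⊤ : Submodule R E)).map g := by
      rw [Submodule.map_smul'', Submodule.map_top, LinearMap.range_eq_top.mpr hg]
      exact h3
    obtain ⟨e', he', hge'⟩ := h4
    refine ⟨e - e', ?_, ?_⟩
    · rw [map_sub, hge']; abel
    · rw [map_sub, he]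
      have : i e' = 0 := by
        rw [← LinearMap.mem_ker, hker]; exact he'
      rw [this, sub_zero]
  have huniq : ∀ e e' : E, g e = g e' → i e = i e' → e = e' := by
    intro e e' h1 h2
    rw [← sub_eq_zero]
    apply hinj
    · rw [LinearMap.mem_ker, map_sub, h1, sub_self]
    · rw [map_sub, h2, sub_self]
  choose s hs1 hs2 using hex
  refine ⟨{ toFun := s, map_add' := fun p q => huniq _ _ ?_ ?_, map_smul' := fun c p => huniq _ _ ?_ ?_ }, ?_⟩
  · rw [hs1, map_add, hs1, hs1]
  · rw [hs2, map_add, hs2, hs2, TensorProduct.tmul_add, map_add]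
  · rw [hs1, map_smul, RingHom.id_apply, hs1]
  · rw [hs2, map_smul, RingHom.id_apply, hs2, TensorProduct.tmul_smul, ← algebraMap_smul (R ⧸ J) c (1 ⊗ₜ[R] p),
      map_smul, algebraMap_smul]
  · ext p
    exact hs1 p

/-- The lifting property for surjections with kernel killed by `J`. -/
theorem exists_lift_of_killed (J : Ideal R) [Module.Flat R P] (hP : Module.Projective (R ⧸ J) ((R ⧸ J) ⊗[R] P))
    {A B : Type*} [AddCommGroup A] [Module R A] [AddCommGroup B] [Module R B] (g : A →ₗ[R] B)
    (hg : Function.Surjective g) (hK : ∀ a ∈ J, ∀ x ∈ LinearMap.ker g, a • x = 0) (f : P →ₗ[R] B) :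
    ∃ h : P →ₗ[R] A, g ∘ₗ h = f := by
  -- the pullback
  let E : Submodule R (A × P) := LinearMap.ker ((g ∘ₗ LinearMap.fst R A P) - (f ∘ₗ LinearMap.snd R A P))
  have hE : ∀ x : A × P, x ∈ E ↔ g x.1 = f x.2 := fun x => by
    simp [E, sub_eq_zero]
  let π : E →ₗ[R] P := LinearMap.snd R A P ∘ₗ E.subtype
  have hπ : Function.Surjective π := by
    intro p
    obtain ⟨a, ha⟩ := hg (f p)
    exact ⟨⟨(a, p), (hE _).mpr ha⟩, rfl⟩
  obtain ⟨s, hs⟩ := exists_section J hP π hπ (by
    rintro a ha ⟨⟨x, p⟩, hx⟩ hxp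
    have hp : p = 0 := hxp
    subst hp
    have h1 : g x = 0 := by
      have := (hE _).mp hx
      simpa using this
    apply Subtype.ext
    exact Prod.ext (hK a ha x h1) (smul_zero _))
  refine ⟨LinearMap.fst R A P ∘ₗ E.subtype ∘ₗ s, ?_⟩
  ext p
  have h2 := (hE _).mp (s p).2
  have h3 : (s p).1.2 = p := LinearMap.congr_fun hs p
  rw [h3] at h2
  exact h2

/-- The lifting property for surjections with kernel killed by a product of ideals. -/
theorem exists_lift_of_prod (l : List (Ideal R)) [Module.Flat R P]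
    (hP : ∀ J ∈ l, Module.Projective (R ⧸ J) ((R ⧸ J) ⊗[R] P))
    {A B : Type w} [AddCommGroup A] [Module R A] [AddCommGroup B] [Module R B] (g : A →ₗ[R] B)
    (hg : Function.Surjective g) (hK : l.prod • LinearMap.ker g = ⊥) (f : P →ₗ[R] B) :
    ∃ h : P →ₗ[R] A, g ∘ₗ h = f := by
  induction l generalizing A B with
  | nil =>
    simp only [List.prod_nil, Ideal.one_eq_top, Submodule.top_smul] at hK
    let e := LinearEquiv.ofBijective g ⟨LinearMap.ker_eq_bot.mp hK, hg⟩
    exact ⟨e.symm.toLinearMap ∘ₗ f, by ext p; exact e.apply_symm_apply _⟩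
  | cons J l ih =>
    -- `A → A / J K → B`
    let K := LinearMap.ker g
    let A' := A ⧸ (l.prod • K)
    have hle : l.prod • K ≤ LinearMap.ker g := Submodule.smul_le_right
    let g' : A' →ₗ[R] B := (l.prod • K).liftQ g hle
    have hg' : Function.Surjective g' := fun b => by
      obtain ⟨a, rfl⟩ := hg b
      exact ⟨(l.prod • K).mkQ a, rfl⟩
    obtain ⟨f', hf'⟩ := ih (fun J' hJ' => hP J' (List.mem_cons_of_mem _ hJ')) g' hg' (by
      rw [eq_bot_iff, Submodule.smul_le]
      intro a ha x hx
      obtain ⟨x, rfl⟩ := (l.prod • K).mkQ_surjective x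
      have hx' : x ∈ K := hx
      rw [← map_smul, Submodule.mem_bot, ← LinearMap.mem_ker, Submodule.ker_mkQ]
      exact Submodule.smul_mem_smul ha hx') f
    obtain ⟨h, hh⟩ := exists_lift_of_killed J (hP J (List.mem_cons_self)) (l.prod • K).mkQ
      (l.prod • K).mkQ_surjective (by
        intro a ha x hx
        rw [Submodule.ker_mkQ] at hx
        have h1 : a • x ∈ (J * l.prod) • K := by
          rw [← smul_eq_mul, Submodule.smul_assoc]
          exact Submodule.smul_mem_smul ha hx
        rw [List.prod_cons] at hK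
        rw [hK] at h1
        simpa using h1) f'
    refine ⟨h, ?_⟩
    rw [← hf', ← hh]
    rfl

/-- A flat module which is projective modulo finitely many ideals with product zero is projective. -/
theorem projective_of_flat_of_prod_eq_zero {R : Type u} [CommRing R] {P : Type u} [AddCommGroup P] [Module R P]
    (l : List (Ideal R)) [Module.Flat R P]
    (hP : ∀ J ∈ l, Module.Projective (R ⧸ J) ((R ⧸ J) ⊗[R] P)) (hl : l.prod = ⊥) : Module.Projective R P := by
  apply Module.Projective.of_lifting_property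
  intro A B _ _ _ _ g f hg
  exact exists_lift_of_prod l hP g hg (by rw [hl, Submodule.bot_smul]) f

end K64.ProjectiveFilt
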