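import Mathlib.LinearAlgebra.Dimension.Localization
import Mathlib.LinearAlgebra.Dimension.Constructions
import Mathlib.RingTheory.Localization.FractionRing
import Mathlib.RingTheory.Localization.BaseChange
import Mathlib.LinearAlgebra.Dimension.Free

/-!
# Rank of a module over a domain as the dimension over the fraction field

* `rank_eq_rank_fractionRing_tensor`: `rank_R M = dim_K (K ⊗_R M)`.
* `rank_baseChange_of_injective`: the rank is invariant under injective base change of domains.
* `rank_tensorProduct_of_isDomain`: the rank is multiplicative for tensor products.
-/

set_option autoImplicit false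
universe u
open TensorProduct

namespace K64.RankDomain

/-- The rank of a module over a domain is the dimension over the fraction field after base change. -/
theorem rank_eq_rank_tensor (R K : Type u) [CommRing R] [IsDomain R] [Field K] [Algebra R K] [IsFractionRing R K]
    (M : Type u) [AddCommGroup M] [Module R M] :
    Module.rank K (K ⊗[R] M) = Module.rank R M := by
  rw [IsLocalization.rank_eq K (nonZeroDivisors R) le_rfl]
  exact IsLocalizedModule.rank_eq (nonZeroDivisors R) le_rfl (TensorProduct.mk R K M 1)

/-- The rank of a module over a domain is invariant under injective base change to another domain. -/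
theorem rank_baseChange_of_injective (R R' : Type u) [CommRing R] [IsDomain R] [CommRing R'] [IsDomain R']
    [Algebra R R'] (h : Function.Injective (algebraMap R R')) (M : Type u) [AddCommGroup M] [Module R M] :
    Module.rank R' (R' ⊗[R] M) = Module.rank R M := by
  let K := FractionRing R
  let K' := FractionRing R'
  let _ : Algebra K K' := (IsFractionRing.lift (A := R) (K := K) (g := algebraMap R K')
    (by
      rw [IsScalarTower.algebraMap_eq R R' K']
      exact (IsFractionRing.injective R' K').comp h)).toAlgebra
  have : IsScalarTower R K K' := IsScalarTower.of_algebraMap_eq fun r =>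
    (IsFractionRing.lift_algebraMap _ r).symm
  rw [← rank_eq_rank_tensor R' K' (R' ⊗[R] M), ← rank_eq_rank_tensor R K M,
    (AlgebraTensorModule.cancelBaseChange R R' K' K' M).rank_eq,
    ← (AlgebraTensorModule.cancelBaseChange R K K' K' M).rank_eq, Module.rank_baseChange]
  exact Cardinal.lift_id _

/-- The rank of a tensor product of modules over a domain. -/
theorem rank_tensorProduct_of_isDomain (R : Type u) [CommRing R] [IsDomain R] (M N : Type u)
    [AddCommGroup M] [Module R M] [AddCommGroup N] [Module R N] :
    Module.rank R (M ⊗[R] N) = Module.rank R M * Module.rank R N := by
  let K := FractionRing R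
  rw [← rank_eq_rank_tensor R K (M ⊗[R] N), ← rank_eq_rank_tensor R K M, ← rank_eq_rank_tensor R K N,
    (AlgebraTensorModule.distribBaseChange R K M N).rank_eq, rank_tensorProduct']

end K64.RankDomain
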