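import Mathlib.Algebra.Module.FinitePresentation
import Mathlib.LinearAlgebra.Dual.Lemmas
import Mathlib.RingTheory.Localization.Module
import Mathlib.Algebra.Module.LocalizedModule.Exact
import Groth.Agent.CAlg.K64.DepthHom

/-!
# Localization of the evaluation map to the double dual

* `dualMap`, `ddualMap`: the localization maps `M* → (M')*` and `M** → (M')**`.
* `ddualMap_eval`: they are compatible with the evaluation maps.
* `bijective_eval_of_isLocalizedModule`: reflexivity localizes.
-/

set_option autoImplicit false
universe u v w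

namespace K64.Reflexive

open Module

section
variable {R : Type u} [CommRing R] (S : Submonoid R) (Rₛ : Type u) [CommRing Rₛ] [Algebra R Rₛ] [IsLocalization S Rₛ]
  {M M' : Type u} [AddCommGroup M] [Module R M] [AddCommGroup M'] [Module R M'] [Module Rₛ M'] [IsScalarTower R Rₛ M']
  (f : M →ₗ[R] M') [IsLocalizedModule S f]

/-- The localization map `M* → (M')*`. -/
noncomputable def dualMap : Dual R M →ₗ[R] Dual Rₛ M' :=
  IsLocalizedModule.mapExtendScalars S f (Algebra.linearMap R Rₛ) Rₛ

theorem dualMap_apply (φ : Dual R M) (m : M) : dualMap S Rₛ f φ (f m) = algebraMap R Rₛ (φ m) := by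
  simp [dualMap]

instance [Module.FinitePresentation R M] : IsLocalizedModule S (dualMap S Rₛ f) := by
  unfold dualMap; infer_instance

/-- The localization map `M** → (M')**`. -/
noncomputable def ddualMap [Module.FinitePresentation R M] : Dual R (Dual R M) →ₗ[R] Dual Rₛ (Dual Rₛ M') :=
  IsLocalizedModule.mapExtendScalars S (dualMap S Rₛ f) (Algebra.linearMap R Rₛ) Rₛ

theorem ddualMap_apply [Module.FinitePresentation R M] (Φ : Dual R (Dual R M)) (φ : Dual R M) :
    ddualMap S Rₛ f Φ (dualMap S Rₛ f φ) = algebraMap R Rₛ (Φ φ) := by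
  simp [ddualMap]

instance [Module.FinitePresentation R M] [Module.FinitePresentation R (Dual R M)] :
    IsLocalizedModule S (ddualMap S Rₛ f) := by
  unfold ddualMap; infer_instance

theorem ddualMap_eval [Module.FinitePresentation R M] (m : M) :
    ddualMap S Rₛ f (Dual.eval R M m) = Dual.eval Rₛ M' (f m) := by
  have h : (ddualMap S Rₛ f (Dual.eval R M m)).restrictScalars R = (Dual.eval Rₛ M' (f m)).restrictScalars R := by
    apply IsLocalizedModule.linearMap_ext S (dualMap S Rₛ f) (Algebra.linearMap R Rₛ)
    ext φ
    change ddualMap S Rₛ f (Dual.eval R M m) (dualMap S Rₛ f φ) = Dual.eval Rₛ M' (f m) (dualMap S Rₛ f φ)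
    rw [ddualMap_apply, Dual.eval_apply, Dual.eval_apply, dualMap_apply]
  exact LinearMap.restrictScalars_injective R h

theorem map_eval [Module.FinitePresentation R M] [Module.FinitePresentation R (Dual R M)] :
    IsLocalizedModule.map S f (ddualMap S Rₛ f) (Dual.eval R M) = (Dual.eval Rₛ M').restrictScalars R := by
  apply IsLocalizedModule.linearMap_ext S f (ddualMap S Rₛ f)
  ext m : 1
  change IsLocalizedModule.map S f (ddualMap S Rₛ f) (Dual.eval R M) (f m) = Dual.eval Rₛ M' (f m)
  rw [IsLocalizedModule.map_apply, ddualMap_eval]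

include S f in
/-- Reflexivity localizes. -/
theorem bijective_eval_of_isLocalizedModule [Module.FinitePresentation R M] [Module.FinitePresentation R (Dual R M)]
    (h : Function.Bijective (Dual.eval R M)) : Function.Bijective (Dual.eval Rₛ M') := by
  have h1 : Function.Bijective (IsLocalizedModule.map S f (ddualMap S Rₛ f) (Dual.eval R M)) :=
    ⟨IsLocalizedModule.map_injective S _ _ _ h.1, IsLocalizedModule.map_surjective S _ _ _ h.2⟩
  rw [map_eval] at h1
  exact h1

include f in
/-- The localized evaluation map is bijective iff the localization is reflexive. -/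
theorem bijective_map_eval_iff [Module.FinitePresentation R M] [Module.FinitePresentation R (Dual R M)] :
    Function.Bijective (LocalizedModule.map S (Dual.eval R M)) ↔ Function.Bijective (Dual.eval Rₛ M') := by
  have h1 := LocalizedModule.restrictScalars_map_eq S f (ddualMap S Rₛ f) (Dual.eval R M)
  have h2 : (⇑(LocalizedModule.map S (Dual.eval R M)) : _ → _) =
      ⇑((IsLocalizedModule.iso S (ddualMap S Rₛ f)).symm) ∘
        ⇑(IsLocalizedModule.map S f (ddualMap S Rₛ f) (Dual.eval R M)) ∘ ⇑(IsLocalizedModule.iso S f) := by
    funext x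
    exact LinearMap.congr_fun h1 x
  rw [h2, (IsLocalizedModule.iso S (ddualMap S Rₛ f)).symm.bijective.of_comp_iff',
    Function.Bijective.of_comp_iff _ (IsLocalizedModule.iso S f).bijective, map_eval]
  rfl

end

/-- The dual of a finite module over a Noetherian ring is finitely presented. -/
theorem finitePresentation_dual (R M : Type u) [CommRing R] [IsNoetherianRing R] [AddCommGroup M] [Module R M]
    [Module.Finite R M] : Module.FinitePresentation R (Dual R M) := by
  have : Module.Finite R (Dual R M) := K64.DepthHom.finite_hom M R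
  exact Module.finitePresentation_of_finite R _

/-- Over a domain, `depth M_p ≥ 2` implies that `p` is not associated to `M**`. -/
theorem notMem_associatedPrimes_of_two_le_depth {R M : Type u} [CommRing R] [IsDomain R] [IsNoetherianRing R]
    [AddCommGroup M] [Module R M] [Module.Finite R M] (p : Ideal R) [p.IsPrime]
    (h : 2 ≤ LocCoh.depth (Localization.AtPrime p) (LocalizedModule p.primeCompl M)) :
    p ∉ associatedPrimes R (Dual R (Dual R M)) := by
  intro hp
  obtain ⟨_, x, hx⟩ := (Groth.Agent.S2090.mem_associatedPrimes_iff_exists p).mp hp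
  have hx0 : x ≠ 0 := by
    rintro rfl
    exact (inferInstance : p.IsPrime).ne_top (by
      rw [Ideal.eq_top_iff_one, hx]; simp)
  obtain ⟨a, ha, b, hb, h1, -⟩ := Groth.Agent.S2090.exists_pair_of_two_le_depth_localization p h
  have ha0 : a = 0 := by
    by_contra hne
    apply hx0
    ext φ
    have := LinearMap.congr_fun ((hx a).mp ha) φ
    simpa [hne] using this
  subst ha0
  apply hx0
  ext φ
  have hφ : φ = 0 := by
    ext m
    obtain ⟨s, hs, hsm⟩ := h1 m (zero_smul _ _)
    have hs0 : s ≠ 0 := by rintro rfl; exact hs (zero_mem p)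
    have := congrArg φ hsm
    rw [map_smul, map_zero, smul_eq_mul] at this
    simpa [hs0] using this
  rw [hφ, map_zero, map_zero]

end K64.Reflexive
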